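import Mathlib
import Groth.Prelude.Def_FlatMod2
import Groth.Agent.Lib.Lead.QC.Gen
import Groth.Agent.Lib.Lead.QC.LocFree
import Groth.Agent.Lib.Helper8.KSh.Free

/-! # Generators of a module from local generators of its sheaf on an open cover -/

set_option autoImplicit false
universe u

open CategoryTheory AlgebraicGeometry Opposite TopologicalSpace

namespace Groth.Agent.H8.GenCover

/-- clearing denominators in a span. -/
theorem exists_pow_smul_mem_span {R : Type*} [CommRing R] (a : R) {M : Type*} [AddCommGroup M]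
    [Module R M] {A : Type*} [CommRing A] [Algebra R A] [IsLocalization.Away a A]
    {P : Type*} [AddCommGroup P] [Module R P] [Module A P] [IsScalarTower R A P]
    (f : M →ₗ[R] P) (hloc : IsLocalizedModule (Submonoid.powers a) f)
    {n : ℕ} (y : Fin n → P) (hy : ∀ z : M, f z ∈ Submodule.span A (Set.range y)) :
    ∃ x : Fin n → M, ∀ z : M, ∃ k : ℕ, a ^ k • z ∈ Submodule.span R (Set.range x) := by
  classical
  have hsurj : ∀ j, ∃ (xj : M) (k : ℕ), f xj = a ^ k • y j := by
    intro j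
    obtain ⟨⟨xj, s⟩, h⟩ := IsLocalizedModule.surj (Submonoid.powers a) f (y j)
    obtain ⟨k, hk⟩ := (Submonoid.mem_powers_iff _ _).mp s.2
    refine ⟨xj, k, ?_⟩
    dsimp only at h
    rw [← h, hk]
    rfl
  choose x k hx using hsurj
  refine ⟨x, fun z => ?_⟩
  have key : ∀ p ∈ Submodule.span A (Set.range y), ∃ (l : ℕ) (w : M),
      w ∈ Submodule.span R (Set.range x) ∧ a ^ l • p = f w := by
    intro p hp
    induction hp using Submodule.span_induction with
    | mem p hp =>
      obtain ⟨j, rfl⟩ := hp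
      exact ⟨k j, x j, Submodule.subset_span ⟨j, rfl⟩, (hx j).symm⟩
    | zero => exact ⟨0, 0, Submodule.zero_mem _, by simp⟩
    | add p q _ _ ihp ihq =>
      obtain ⟨l1, w1, hw1, h1⟩ := ihp
      obtain ⟨l2, w2, hw2, h2⟩ := ihq
      refine ⟨l1 + l2, a ^ l2 • w1 + a ^ l1 • w2,
        Submodule.add_mem _ (Submodule.smul_mem _ _ hw1) (Submodule.smul_mem _ _ hw2), ?_⟩
      rw [map_add, map_smul, map_smul, ← h1, ← h2, smul_add, smul_smul, smul_smul, pow_add,
        mul_comm (a ^ l1) (a ^ l2)]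
    | smul c p _ ih =>
      obtain ⟨l, w, hw, h⟩ := ih
      obtain ⟨⟨r, s⟩, hr⟩ := IsLocalization.surj (Submonoid.powers a) c
      obtain ⟨e, he⟩ := (Submonoid.mem_powers_iff _ _).mp s.2
      dsimp only at hr
      rw [← he] at hr
      refine ⟨l + e, r • w, Submodule.smul_mem _ _ hw, ?_⟩
      rw [map_smul, ← h]
      have e1 : a ^ (l + e) • (c • p) = (algebraMap R A (a ^ (l + e)) * c) • p := by
        rw [mul_smul, algebraMap_smul]
      have e2 : r • (a ^ l • p) = (algebraMap R A r * algebraMap R A (a ^ l)) • p := by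
        rw [mul_smul, algebraMap_smul, algebraMap_smul]
      rw [e1, e2]
      congr 1
      rw [pow_add, map_mul, ← hr]
      ring
  obtain ⟨l, w, hw, h⟩ := key _ (hy z)
  rw [← map_smul] at h
  obtain ⟨⟨c, hc⟩, hcw⟩ := hloc.exists_of_eq h
  obtain ⟨N, hN⟩ := (Submonoid.mem_powers_iff _ _).mp hc
  refine ⟨N + l, ?_⟩
  have h3 : a ^ (N + l) • z = a ^ N • w := by
    rw [pow_add, mul_smul]
    have := hcw
    rw [Submonoid.smul_def, Submonoid.smul_def] at this
    dsimp only at this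
    rw [← hN] at this
    exact this
  rw [h3]
  exact Submodule.smul_mem _ _ hw

/-- partition of unity subordinate to a finite open cover of a prime spectrum. -/
theorem exists_partition {R : Type*} [CommRing R] {m : ℕ} (U : Fin m → Opens (PrimeSpectrum R))
    (hU : ⨆ i, U i = ⊤) :
    ∃ a : Fin m → R, ∑ i, a i = 1 ∧ ∀ i, PrimeSpectrum.basicOpen (a i) ≤ U i := by
  classical
  let I : Fin m → Ideal R := fun i =>
    PrimeSpectrum.vanishingIdeal ((U i : Set (PrimeSpectrum R))ᶜ)
  have hI : ⨆ i, I i = ⊤ := by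
    by_contra h
    obtain ⟨𝔪, h𝔪, hle⟩ := Ideal.exists_le_maximal _ h
    let x : PrimeSpectrum R := ⟨𝔪, h𝔪.isPrime⟩
    have hx : x ∈ ⨆ i, U i := by rw [hU]; trivial
    obtain ⟨i, hi⟩ := Opens.mem_iSup.mp hx
    have hcl : PrimeSpectrum.zeroLocus (I i : Set R) = (U i : Set (PrimeSpectrum R))ᶜ := by
      rw [PrimeSpectrum.zeroLocus_vanishingIdeal_eq_closure]
      exact (U i).isOpen.isClosed_compl.closure_eq
    have hmem : x ∈ PrimeSpectrum.zeroLocus (I i : Set R) := by
      rw [PrimeSpectrum.mem_zeroLocus]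
      exact (le_iSup I i).trans hle
    rw [hcl] at hmem
    exact hmem hi
  have h1 : (1 : R) ∈ ⨆ i, I i := by rw [hI]; trivial
  rw [Submodule.mem_iSup_iff_exists_finsupp] at h1
  obtain ⟨f, hf, hsum⟩ := h1
  refine ⟨fun i => f i, ?_, fun i => ?_⟩
  · rw [← hsum, Finsupp.sum_fintype]
    intro i
    rfl
  · intro x hx
    by_contra hxU
    have h2 : f i ∈ x.asIdeal := by
      have h3 := hf i
      rw [PrimeSpectrum.mem_vanishingIdeal] at h3
      exact h3 x hxU
    exact hx h2

set_option backward.isDefEq.respectTransparency false in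
/-- transport along an equality of opens. -/
theorem exists_gens_of_span (R : CommRingCat.{u}) (M : ModuleCat.{u} R) (a : R) {n : ℕ}
    (D' : (Spec R).Opens) (hD' : D' = PrimeSpectrum.basicOpen a)
    (y : Fin n → Γ(tilde M, D'))
    (hy : ∀ z : M, ((tilde.toOpen M D').hom z : Γ(tilde M, D')) ∈
      Submodule.span Γ(Spec R, D') (Set.range y)) :
    ∃ x : Fin n → M, ∀ z : M, ∃ k : ℕ, a ^ k • z ∈ Submodule.span R (Set.range x) := by
  subst hD'
  exact exists_pow_smul_mem_span (R := R) a (M := M)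
    (A := Γ(Spec R, PrimeSpectrum.basicOpen a))
    (P := Γ(tilde M, PrimeSpectrum.basicOpen a))
    (tilde.toOpen M (PrimeSpectrum.basicOpen a)).hom
    (inferInstanceAs (IsLocalizedModule.Away a (tilde.toOpen M (PrimeSpectrum.basicOpen a)).hom))
    y hy

set_option backward.isDefEq.respectTransparency false in
/-- local generators over a basic open contained in an open on which the sheaf is generated by
`n` sections. -/
theorem exists_local_gens (R : CommRingCat.{u}) (M : ModuleCat.{u} R) (n : ℕ)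
    (U : (Spec R).Opens) (a : R) (ha : PrimeSpectrum.basicOpen a ≤ U)
    (φ : FlatMod.freeMod (↑U) n ⟶ (tilde M).restrict U.ι) (hφ : Epi φ) :
    ∃ x : Fin n → M, ∀ z : M, ∃ k : ℕ, a ^ k • z ∈ Submodule.span R (Set.range x) := by
  classical
  obtain ⟨W, hW⟩ : ∃ W : (↑U : Scheme.{u}).Opens, W = U.ι ⁻¹ᵁ (PrimeSpectrum.basicOpen a) :=
    ⟨_, rfl⟩
  have hD' : U.ι ''ᵁ W = PrimeSpectrum.basicOpen a := by
    rw [hW, Scheme.Hom.image_preimage_eq_opensRange_inf, Scheme.Opens.opensRange_ι]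
    exact inf_eq_right.mpr ha
  have hWaff : IsAffineOpen W := by
    rw [hW]
    exact (IsAffineOpen.Spec_basicOpen a).preimage_of_isOpenImmersion U.ι
      (by rw [Scheme.Opens.opensRange_ι]; exact ha)
  have hsurj := LD.QC.epi_app_affine (M := FlatMod.freeMod (↑U) n)
    (N := (tilde M).restrict U.ι) inferInstance inferInstance φ hWaff
  let y : Fin n → Γ(tilde M, U.ι ''ᵁ W) := fun j => φ.app W (KSh.stdSec (↑U) n W j)
  have key : ∀ g : Γ(FlatMod.freeMod (↑U) n, W),
      (φ.app W g : Γ(tilde M, U.ι ''ᵁ W)) ∈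
        Submodule.span Γ(Spec R, U.ι ''ᵁ W) (Set.range y) := by
    intro g
    obtain ⟨c, hc⟩ : ∃ c : Fin n → Γ((↑U : Scheme.{u}), W),
        g = ∑ j, c j • KSh.stdSec (↑U) n W j := by
      refine ⟨fun j => (KSh.stdBasis (↑U) n W).repr g j, ?_⟩
      conv_lhs => rw [← (KSh.stdBasis (↑U) n W).sum_repr g]
      simp only [KSh.stdBasis_apply]
    rw [hc, map_sum]
    refine Submodule.sum_mem _ (fun j _ => ?_)
    rw [Scheme.Modules.Hom.app_smul]
    change ((U.ι.appIso W).inv.hom (c j)) • y j ∈ _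
    exact Submodule.smul_mem _ ((U.ι.appIso W).inv.hom (c j)) (Submodule.subset_span ⟨j, rfl⟩)
  refine exists_gens_of_span R M a (U.ι ''ᵁ W) hD' y (fun z => ?_)
  obtain ⟨g, hg⟩ := hsurj ((tilde.toOpen M (U.ι ''ᵁ W)).hom z)
  have h2 := key g
  rw [hg] at h2
  exact h2

/-- the main statement. -/
theorem main (R : CommRingCat.{u}) (M : ModuleCat.{u} R) (n m : ℕ)
    (U : Fin m → (Spec R).Opens) (hU : ⨆ i, U i = ⊤)
    (hgen : ∀ i, ∃ φ : FlatMod.freeMod (↑(U i)) n ⟶ (tilde M).restrict (U i).ι, Epi φ) :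
    ∃ s : Fin (n * m) → M, Submodule.span R (Set.range s) = ⊤ := by
  classical
  obtain ⟨a, ha1, haU⟩ := exists_partition (R := R) U hU
  have h : ∀ i, ∃ x : Fin n → M, ∀ z : M, ∃ k : ℕ,
      a i ^ k • z ∈ Submodule.span R (Set.range x) := by
    intro i
    obtain ⟨φ, hφ⟩ := hgen i
    exact exists_local_gens R M n (U i) (a i) (haU i) φ hφ
  choose x hx using h
  let e : Fin n × Fin m ≃ Fin (n * m) := finProdFinEquiv
  refine ⟨fun q => x (e.symm q).2 (e.symm q).1, ?_⟩
  rw [eq_top_iff]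
  intro z _
  obtain ⟨S, hS⟩ : ∃ S : Submodule R M,
      S = Submodule.span R (Set.range fun q => x (e.symm q).2 (e.symm q).1) := ⟨_, rfl⟩
  rw [← hS]
  have hxS : ∀ i, Submodule.span R (Set.range (x i)) ≤ S := by
    intro i
    rw [Submodule.span_le, hS]
    rintro _ ⟨j, rfl⟩
    exact Submodule.subset_span ⟨e (j, i), by simp⟩
  obtain ⟨I, hI⟩ : ∃ I : Ideal R, I = S.comap (LinearMap.toSpanSingleton R M z) := ⟨_, rfl⟩
  have hmemI : ∀ r : R, r ∈ I ↔ r • z ∈ S := by
    intro r
    rw [hI, Submodule.mem_comap, LinearMap.toSpanSingleton_apply]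
  have hItop : I = ⊤ := by
    by_contra hne
    obtain ⟨𝔪, h𝔪, hle⟩ := Ideal.exists_le_maximal I hne
    have hex : ∃ i, a i ∉ 𝔪 := by
      by_contra hall
      push_neg at hall
      have h1 : (1 : R) ∈ 𝔪 := ha1 ▸ Ideal.sum_mem _ (fun i _ => hall i)
      exact h𝔪.ne_top ((Ideal.eq_top_iff_one _).mpr h1)
    obtain ⟨i, hi⟩ := hex
    obtain ⟨k, hk⟩ := hx i z
    have h2 : a i ^ k ∈ I := (hmemI _).mpr (hxS i hk)
    exact hi (h𝔪.isPrime.mem_of_pow_mem k (hle h2))
  have h1 : (1 : R) ∈ I := hItop ▸ Submodule.mem_top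
  have h3 := (hmemI 1).mp h1
  rwa [one_smul] at h3

end Groth.Agent.H8.GenCover
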